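import Mathlib
import Cfsg.Agent.Lib.SubnormalJoin
import Cfsg.Agent.Lib.MinNormalNonabelian
import Cfsg.Agent.S0812
import Cfsg.Agent.FastGrp
import Cfsg.Agent.Prune
set_option linter.all false

section
prune_inst 0x7f00000000000000000000000000000000000000000000000000000000000000000000000000000000000000000000000000000000000000000000000000000000000000000000000000000000000000003fffffffffffffffffffffffffffbeffbdffffffff

-- part: H371/FrobCover
section
set_option linter.all false
open scoped Cfsg.Agent.FastGrp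

/-!
# Covers: elements of larger order from Frobenius groups acting on an abelian normal subgroup (helper371)
-/

set_option autoImplicit false

namespace Cfsg.Agent.H371.Frob

open Finset

section act
variable {H V : Type*} [Group H] [CommGroup V] (θ : H →* MulAut V) (U : Subgroup H) [Finite U]

/-- A Frobenius group `U⟨c⟩` acting on `V`, `|U|` prime to the exponent of `V`; if all norms of `c` vanish
then `U` acts trivially. -/
theorem trivial_of_norm {c : H} {m e : ℕ} (hm : 0 < m) (hn : ∀ a ∈ U, ∀ i : ℕ, (c ^ i)⁻¹ * a * c ^ i ∈ U)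
    (hfix : ∀ i, 0 < i → i < m → ∀ a ∈ U, c ^ i * a = a * c ^ i → a = 1)
    (he : ∀ v : V, v ^ e = 1) (hcop : (Nat.card U).Coprime e)
    (hN : ∀ v : V, ∏ i ∈ range m, θ (c ^ i) v = 1) : ∀ a ∈ U, ∀ v, θ a v = v := by
  classical
  let _ : Fintype U := Fintype.ofFinite U
  have key : ∀ v : V, ∏ b : U, θ (b : H) v = 1 → v = 1 := by
    intro v hv
    have h1 : ∏ a : U, ∏ i ∈ range m, θ ((a : H)⁻¹ * c ^ i * a) v = 1 := by
      apply Finset.prod_eq_one
      intro a _
      have h2 := congrArg (θ (a : H)⁻¹) (hN (θ (a : H) v))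
      rw [map_prod, map_one] at h2
      rw [← h2]
      apply Finset.prod_congr rfl
      intro i _
      rw [map_mul, map_mul, MulAut.mul_apply, MulAut.mul_apply]
    rw [Finset.prod_comm] at h1
    have h3 : ∀ i ∈ range m, i ≠ 0 → ∏ a : U, θ ((a : H)⁻¹ * c ^ i * a) v = 1 := by
      intro i hi hi0
      -- the bijection `a ↦ c⁻ⁱ a⁻¹ cⁱ a`
      let φ : U → U := fun a => ⟨(c ^ i)⁻¹ * (a : H)⁻¹ * c ^ i * a,
        U.mul_mem (hn _ (U.inv_mem a.2) i) a.2⟩
      have hφ : Function.Injective φ := by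
        intro a b hab
        have h4 : (c ^ i)⁻¹ * (a : H)⁻¹ * c ^ i * a = (c ^ i)⁻¹ * (b : H)⁻¹ * c ^ i * b :=
          congrArg Subtype.val hab
        have h5 : c ^ i * ((a : H) * (b : H)⁻¹) = ((a : H) * (b : H)⁻¹) * c ^ i := by
          have h6 : (a : H)⁻¹ * (c ^ i * a) = (b : H)⁻¹ * (c ^ i * b) := by
            have := congrArg (fun z => c ^ i * z) h4
            simp only [mul_assoc, mul_inv_cancel_left] at this
            exact this
          calc c ^ i * ((a : H) * (b : H)⁻¹) = a * ((a : H)⁻¹ * (c ^ i * a)) * (b : H)⁻¹ := by group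
            _ = a * ((b : H)⁻¹ * (c ^ i * b)) * (b : H)⁻¹ := by rw [h6]
            _ = _ := by group
        have h7 := hfix i (Nat.pos_of_ne_zero hi0) (Finset.mem_range.1 hi) _
          (U.mul_mem a.2 (U.inv_mem b.2)) h5
        exact Subtype.ext (mul_inv_eq_one.1 h7)
      have hφb : Function.Bijective φ := Finite.injective_iff_bijective.1 hφ
      have h8 : ∏ a : U, θ ((a : H)⁻¹ * c ^ i * a) v = ∏ a : U, θ (c ^ i * (φ a : H)) v := by
        apply Finset.prod_congr rfl
        intro a _
        congr 2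
        change (a : H)⁻¹ * c ^ i * a = c ^ i * ((c ^ i)⁻¹ * (a : H)⁻¹ * c ^ i * a)
        group
      rw [h8, hφb.prod_comp (fun b : U => θ (c ^ i * (b : H)) v)]
      have h9 : ∀ b : U, θ (c ^ i * (b : H)) v = θ (c ^ i) (θ (b : H) v) := by
        intro b
        rw [map_mul, MulAut.mul_apply]
      simp only [h9]
      rw [← map_prod, hv, map_one]
    rw [Finset.prod_eq_single_of_mem 0 (Finset.mem_range.2 hm) h3] at h1
    have h4 : v ^ Nat.card U = 1 := by
      have : ∀ a : U, θ ((a : H)⁻¹ * c ^ 0 * a) v = v := by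
        intro a
        rw [pow_zero, mul_one, inv_mul_cancel, map_one, MulAut.one_apply]
      simp only [this] at h1
      rwa [Finset.prod_const, Finset.card_univ, ← Nat.card_eq_fintype_card] at h1
    have h5 := pow_gcd_eq_one.2 ⟨h4, he v⟩
    rwa [hcop, pow_one] at h5
  intro a ha v
  have h1 : θ a v * v⁻¹ = 1 := by
    apply key
    simp only [map_mul, map_inv, Finset.prod_mul_distrib, Finset.prod_inv_distrib]
    have h2 : ∏ b : U, θ (b : H) (θ a v) = ∏ b : U, θ (b : H) v := by
      have h3 : ∀ b : U, θ (b : H) (θ a v) = θ ((b * ⟨a, ha⟩ : U) : H) v := by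
        intro b
        rw [Subgroup.coe_mul, map_mul, MulAut.mul_apply]
      simp only [h3]
      exact (Group.mulRight_bijective (⟨a, ha⟩ : U)).prod_comp (fun b : U => θ (b : H) v)
    rw [h2, mul_inv_cancel]
  exact mul_inv_eq_one.1 h1

end act

section ext
variable {G : Type*} [Group G] [Finite G]

/-- The action of `G ⧸ V` on the abelian normal subgroup `V`. -/
noncomputable def quotAct (V : Subgroup G) [V.Normal] (hV : IsMulCommutative V) : G ⧸ V →* MulAut V :=
  QuotientGroup.lift V MulAut.conjNormal (by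
    intro v hv
    rw [MonoidHom.mem_ker]
    apply MulEquiv.ext
    intro x
    apply Subtype.ext
    rw [MulAut.conjNormal_apply, MulAut.one_apply]
    have := hV.is_comm.comm ⟨v, hv⟩ x
    have h2 := congrArg Subtype.val this
    simp only [Subgroup.coe_mul] at h2
    rw [h2, mul_inv_cancel_right])

omit [Finite G] in
theorem quotAct_mk (V : Subgroup G) [V.Normal] (hV : IsMulCommutative V) (g : G) (v : V) :
    ((quotAct V hV (g : G ⧸ V) v : V) : G) = g * v * g⁻¹ := by
  change ((MulAut.conjNormal g v : V) : G) = _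
  rw [MulAut.conjNormal_apply]

/-- **An element of order `m * e`.** `V` an abelian normal subgroup of prime exponent `e`, `U⟨c⟩` a Frobenius
subgroup of `G ⧸ V`, `|U|` prime to `e`, `U` not trivial on `V`, `c` of order `m`: there is an element of
order `m * e`. -/
theorem exists_orderOf (V : Subgroup G) [V.Normal] (hV : IsMulCommutative V) {e : ℕ} (he : e.Prime)
    (hVe : ∀ v ∈ V, v ^ e = 1) (U : Subgroup (G ⧸ V)) {c : G ⧸ V} (hn : ∀ a ∈ U, c * a * c⁻¹ ∈ U)
    (hfix : ∀ i, 0 < i → i < orderOf c → ∀ a ∈ U, c ^ i * a = a * c ^ i → a = 1)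
    (hcop : (Nat.card U).Coprime e) (hU : ∃ g : G, (g : G ⧸ V) ∈ U ∧ ∃ v ∈ V, g * v ≠ v * g) :
    ∃ y : G, orderOf y = orderOf c * e := by
  classical
  obtain ⟨g, rfl⟩ := QuotientGroup.mk_surjective c
  set m := orderOf (g : G ⧸ V) with hm
  have hmpos : 0 < m := orderOf_pos _
  let θ := quotAct V hV
  let _ : CommGroup V := { (inferInstance : Group V) with mul_comm := hV.is_comm.comm }
  have hfin : Finite U := inferInstance
  -- norms do not vanish
  have hnorm : ∃ v : V, ∏ i ∈ range m, θ (((g : G ⧸ V)⁻¹) ^ i) v ≠ 1 := by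
    by_contra hcon
    push Not at hcon
    obtain ⟨x, hxU, v, hv, hxv⟩ := hU
    have hn' : ∀ a ∈ U, ∀ i : ℕ, (((g : G ⧸ V)⁻¹) ^ i)⁻¹ * a * ((g : G ⧸ V)⁻¹) ^ i ∈ U := by
      intro a ha i
      induction i with
      | zero => simpa using ha
      | succ i ih =>
        have h1 := hn _ ih
        convert h1 using 1
        rw [pow_succ]; group
    have h1 := trivial_of_norm θ U (c := (g : G ⧸ V)⁻¹) (m := m) (e := e) hmpos hn' (by
      intro i hi him a ha hcomm
      apply hfix i hi him a ha
      rw [inv_pow] at hcomm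
      have h2 : Commute ((g : G ⧸ V) ^ i)⁻¹ a := hcomm
      exact (Commute.inv_left_iff.1 h2)) (fun v => Subtype.ext (hVe v.1 v.2)) hcop hcon (x : G ⧸ V) hxU ⟨v, hv⟩
    have h2 := congrArg Subtype.val h1
    change ((quotAct V hV (x : G ⧸ V) ⟨v, hv⟩ : V) : G) = v at h2
    rw [quotAct_mk] at h2
    apply hxv
    rw [mul_inv_eq_iff_eq_mul] at h2
    exact h2
  obtain ⟨v, hv⟩ := hnorm
  -- powers of `g * v`
  have hpow : ∀ k : ℕ, (g * (v : G)) ^ k = g ^ k * ((∏ i ∈ range k, θ (((g : G ⧸ V)⁻¹) ^ i) v : V) : G) := by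
    intro k
    induction k with
    | zero => simp
    | succ k ih =>
      rw [pow_succ', ih, Finset.prod_range_succ, Subgroup.coe_mul]
      have h1 : ((θ (((g : G ⧸ V)⁻¹) ^ k) v : V) : G) = (g ^ k)⁻¹ * v * g ^ k := by
        have h2 : ((g : G ⧸ V)⁻¹) ^ k = (((g⁻¹) ^ k : G) : G ⧸ V) := by
          rw [QuotientGroup.mk_pow, QuotientGroup.mk_inv]
        rw [h2]
        change ((quotAct V hV _ v : V) : G) = _
        rw [quotAct_mk, inv_pow, inv_inv]
      rw [h1]
      set P := ∏ i ∈ range k, θ (((g : G ⧸ V)⁻¹) ^ i) v with hP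
      have h3 : (P : G) * ((g ^ k)⁻¹ * (v : G) * g ^ k) = ((g ^ k)⁻¹ * (v : G) * g ^ k) * P := by
        have h4 : (g ^ k)⁻¹ * (v : G) * g ^ k ∈ V := by
          have := ‹V.Normal›.conj_mem (v : G) v.2 ((g ^ k)⁻¹)
          rwa [inv_inv] at this
        have := hV.is_comm.comm P ⟨_, h4⟩
        exact congrArg Subtype.val this
      rw [h3, pow_succ']
      group
  have hend : ∀ y : G, (y : G ⧸ V) = (g : G ⧸ V) → y ^ m ≠ 1 → orderOf y = m * e := by
    intro y hy hym
    have h1 : y ^ m ∈ V := by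
      rw [← QuotientGroup.eq_one_iff, QuotientGroup.mk_pow, hy, hm, pow_orderOf_eq_one]
    have h2 : orderOf (y ^ m) = e := by
      have := Fact.mk he
      exact orderOf_eq_prime (hVe _ h1) hym
    have h3 : m ∣ orderOf y := by
      rw [hm, ← hy]
      exact orderOf_map_dvd (QuotientGroup.mk' V) y
    rw [orderOf_pow_of_dvd hmpos.ne' h3] at h2
    rw [← h2, Nat.mul_div_cancel' h3]
  by_cases hg : g ^ m = 1
  · refine ⟨g * v, hend _ ?_ ?_⟩
    · rw [QuotientGroup.mk_mul, (QuotientGroup.eq_one_iff _).2 v.2, mul_one]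
    · rw [hpow, hg, one_mul]
      intro h
      exact hv (Subtype.ext h)
  · exact ⟨g, hend _ rfl hg⟩

end ext

end Cfsg.Agent.H371.Frob
end

-- part: H371/CoverTwo
section
set_option linter.all false
open scoped Cfsg.Agent.FastGrp

/-!
# Covers of `PSL_2(q)` have larger spectrum (helper371)
-/

set_option autoImplicit false

namespace Cfsg.Agent.H371.CoverTwo

open Subgroup

section chief
variable {G : Type*} [Group G] [Finite G]

/-- A chief factor of `G` below the solvable normal subgroup `K`, at the top of `K`. -/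
theorem exists_chief (K : Subgroup G) [hKn : K.Normal] (hK : Group.IsSolvable K) (hne : K ≠ ⊥) :
    ∃ (L : Subgroup G) (_ : L.Normal), L ≤ K ∧ K.map (QuotientGroup.mk' L) ≠ ⊥ ∧
      (∀ x ∈ K.map (QuotientGroup.mk' L), ∀ y ∈ K.map (QuotientGroup.mk' L), x * y = y * x) ∧
      ∃ e : ℕ, e.Prime ∧ e ∣ Nat.card K ∧ ∀ x ∈ K.map (QuotientGroup.mk' L), x ^ e = 1 := by
  classical
  have hfin : {L : Subgroup G | L.Normal ∧ L ≤ K ∧ L ≠ K}.Finite := Set.toFinite _
  obtain ⟨L, ⟨hLn, hLK, hLne⟩, hLmax⟩ := hfin.exists_maximal ⟨⊥, inferInstance, bot_le, hne.symm⟩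
  have := hLn
  set π := QuotientGroup.mk' L with hπ
  set V := K.map π with hV
  have hπs : Function.Surjective π := QuotientGroup.mk'_surjective L
  have hVn : V.Normal := Subgroup.Normal.map hKn π hπs
  have hker : π.ker = L := QuotientGroup.ker_mk' L
  have hV0 : V ≠ ⊥ := by
    intro h
    apply hLne
    apply le_antisymm hLK
    rw [← hker]
    exact (Subgroup.map_eq_bot_iff _).1 h
  have hmin : ∀ M : Subgroup (G ⧸ L), M.Normal → M ≤ V → M = ⊥ ∨ M = V := by
    intro M hM hMV
    have h1 : (M.comap π).Normal := hM.comap π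
    have h2 : L ≤ M.comap π := le_of_eq_of_le hker.symm (Subgroup.ker_le_comap _ _)
    have h3 : M.comap π ≤ K := by
      have h4 : M.comap π ≤ V.comap π := Subgroup.comap_mono hMV
      rwa [hV, Subgroup.comap_map_eq, hker, sup_eq_left.2 hLK] at h4
    by_cases h5 : M.comap π = K
    · right
      rw [hV, ← h5, Subgroup.map_comap_eq_self_of_surjective hπs]
    · left
      have h6 : M.comap π = L := le_antisymm (hLmax ⟨h1, h3, h5⟩ h2) h2
      rw [← Subgroup.map_comap_eq_self_of_surjective hπs M, h6, Subgroup.map_eq_bot_iff, hker]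
  have hVs : Group.IsSolvable V := by
    have := hK
    exact Group.isSolvable_of_surjective (f := π.subgroupMap K) (π.subgroupMap_surjective K)
  have hab : ∀ x ∈ V, ∀ y ∈ V, Commute x y := by
    have h1 : (⁅V, V⁆ : Subgroup (G ⧸ L)).Normal := inferInstance
    rcases hmin _ h1 (Subgroup.commutator_le_self V) with h2 | h2
    · intro x hx y hy
      rw [Subgroup.commutator_eq_bot_iff_le_centralizer] at h2
      exact (Subgroup.mem_centralizer_iff.1 (h2 hx) y hy).symm
    · exfalso
      -- `V` perfect and solvable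
      apply hV0
      have h3 : ∀ n, (derivedSeries V n).map V.subtype = V := by
        intro n
        induction n with
        | zero => rw [derivedSeries_zero, ← MonoidHom.range_eq_map, Subgroup.range_subtype]
        | succ n ih => rw [derivedSeries_succ, Subgroup.map_commutator, ih, h2]
      obtain ⟨n, hn⟩ := (Group.isSolvable_def V).1 hVs
      rw [← h3 n, hn, Subgroup.map_bot]
  obtain ⟨e, he, hpg, hexp⟩ := Cfsg.Agent.Lib.MinNormalNonabelian.abelian_structure V hV0 hmin hab
  refine ⟨L, hLn, hLK, hV0, hab, e, he, ?_, hexp⟩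
  obtain ⟨x, hx1⟩ := (Subgroup.ne_bot_iff_exists_ne_one).1 hV0
  have h1 : orderOf (x : G ⧸ L) = e := by
    have := Fact.mk he
    exact orderOf_eq_prime (hexp x x.2) (fun h => hx1 (Subtype.ext h))
  have h2 : e ∣ Nat.card V := by
    rw [← h1, Subgroup.orderOf_coe]
    exact orderOf_dvd_natCard x
  exact h2.trans (Subgroup.card_map_dvd K π)

end chief

section main
open Matrix Matrix.SpecialLinearGroup Cfsg.Agent.ClassicalGeometry.SplitTorus

variable {F : Type*} [Field F]

local notation "PSL2" => Matrix.ProjectiveSpecialLinearGroup (Fin 2) F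
local notation "SL2" => Matrix.SpecialLinearGroup (Fin 2) F

abbrev prj (F : Type*) [Field F] : Matrix.SpecialLinearGroup (Fin 2) F →*
    Matrix.ProjectiveSpecialLinearGroup (Fin 2) F :=
  QuotientGroup.mk' (Subgroup.center (Matrix.SpecialLinearGroup (Fin 2) F))

/-- the root group -/
def upHom (F : Type*) [Field F] : Multiplicative F →* Matrix.ProjectiveSpecialLinearGroup (Fin 2) F where
  toFun b := prj F (up b.toAdd)
  map_one' := by rw [toAdd_one, up_zero, map_one]
  map_mul' a b := by rw [toAdd_mul, up_add, map_mul]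

theorem prj_up_eq {b c : F} (h : prj F (up b) = prj F (up c)) : b = c := by
  have h1 : prj F (up (b - c)) = 1 := by
    rw [sub_eq_add_neg, up_add, up_neg, map_mul, map_inv, h, mul_inv_cancel]
  have h2 : up (b - c) ∈ Subgroup.center SL2 := by
    rw [← QuotientGroup.eq_one_iff]; exact h1
  obtain ⟨r, -, hr⟩ := Matrix.SpecialLinearGroup.mem_center_iff.1 h2
  have h3 := congrFun (congrFun hr 0) 1
  have h4 : (up (b - c) : Matrix (Fin 2) (Fin 2) F) 0 1 = b - c := rfl
  rw [h4] at h3
  rw [scalar_apply, diagonal_apply_ne _ (by decide)] at h3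
  exact (sub_eq_zero.1 h3.symm)

/-- **No covers.** -/
theorem eq_bot {G : Type*} [Group G] [Finite G] [Fintype F] {p : ℕ} [hp : Fact p.Prime] [CharP F p]
    {q : ℕ} (hFq : Fintype.card F = q) (hq : 4 ≤ q)
    (hspec : ∀ g : G, orderOf g ∣ p ∨ orderOf g ∣ (q - 1) / Nat.gcd 2 (q - 1) ∨
      orderOf g ∣ (q + 1) / Nat.gcd 2 (q - 1))
    (K : Subgroup G) [K.Normal] (hK : Group.IsSolvable K) (hpK : ¬ p ∣ Nat.card K)
    (f : PSL2 →* G ⧸ K) (hf : Function.Injective f) : K = ⊥ := by
  classical
  by_contra hne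
  obtain ⟨L, hLn, hLK, hV0, hab, e, he, heK, hexp⟩ := exists_chief K hK hne
  have hpe : p ≠ e := by rintro rfl; exact hpK heK
  set π := QuotientGroup.mk' L with hπ
  set V := K.map π with hV
  have hπs : Function.Surjective π := QuotientGroup.mk'_surjective L
  have hVn : V.Normal := Subgroup.Normal.map inferInstance π hπs
  let ψ : (G ⧸ L) ⧸ V ≃* G ⧸ K := QuotientGroup.quotientQuotientEquivQuotient L K hLK
  obtain ⟨φ, hφ⟩ : ∃ φ : PSL2 →* (G ⧸ L) ⧸ V, Function.Injective φ :=
    ⟨(ψ.symm.toMonoidHom).comp f, fun a b h => hf (ψ.symm.injective h)⟩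
  have hspec' : ∀ g : G ⧸ L, orderOf g ∣ p ∨ orderOf g ∣ (q - 1) / Nat.gcd 2 (q - 1) ∨
      orderOf g ∣ (q + 1) / Nat.gcd 2 (q - 1) := by
    intro g
    obtain ⟨g, rfl⟩ := hπs g
    have h1 := orderOf_map_dvd π g
    rcases hspec g with h | h | h
    · exact Or.inl (h1.trans h)
    · exact Or.inr (Or.inl (h1.trans h))
    · exact Or.inr (Or.inr (h1.trans h))
  have hpq : p ∣ q := by
    obtain ⟨n, -, hn⟩ := FiniteField.card F p
    rw [← hFq, hn]
    exact dvd_pow_self p n.ne_zero
  have hp1 := hp.out.one_lt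
  have hp_sub : ¬ p ∣ q - 1 := by
    intro h
    have h1 : p ∣ q - (q - 1) := Nat.dvd_sub hpq h
    rw [Nat.sub_sub_self (by omega)] at h1
    exact hp1.ne' (Nat.dvd_one.1 h1)
  have hp_add : ¬ p ∣ q + 1 := by
    intro h
    have h1 := (Nat.dvd_add_right hpq).1 h
    exact hp1.ne' (Nat.dvd_one.1 h1)
  set d := Nat.gcd 2 (q - 1) with hd
  have hdsub : d ∣ q - 1 := Nat.gcd_dvd_right _ _
  have hd12 : d = 1 ∨ d = 2 := (Nat.dvd_prime Nat.prime_two).1 (Nat.gcd_dvd_left _ _)
  have hdadd : d ∣ q + 1 := by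
    rcases hd12 with h | h
    · rw [h]; exact one_dvd _
    · rw [h] at hdsub ⊢; omega
  have hp_sub' : ¬ p ∣ (q - 1) / d := fun h => hp_sub (h.trans (Nat.div_dvd_of_dvd hdsub))
  have hp_add' : ¬ p ∣ (q + 1) / d := fun h => hp_add (h.trans (Nat.div_dvd_of_dvd hdadd))
  -- no element of order `p * e`
  have hnope : ∀ g : G ⧸ L, orderOf g ≠ p * e := by
    intro g hg
    rcases hspec' g with h | h | h
    · rw [hg] at h
      have := Nat.le_of_dvd hp.out.pos h
      have := he.two_le
      nlinarith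
    · exact hp_sub' ((Dvd.intro _ hg.symm).trans h)
    · exact hp_add' ((Dvd.intro _ hg.symm).trans h)
  obtain ⟨g, hg⟩ := IsCyclic.exists_generator (α := Fˣ)
  have hgo : orderOf g = q - 1 := by
    rw [orderOf_eq_card_of_forall_mem_zpowers hg, Nat.card_units, Nat.card_eq_fintype_card, hFq]
  have hco : orderOf (φ (prj F (dg g))) = (q - 1) / d := by
    rw [orderOf_injective φ hφ, Cfsg.Agent.S0812.orderOf_mk_dg, orderOf_pow, hgo, Nat.gcd_comm]
  have hdgpow : ∀ i : ℕ, (dg g) ^ i = dg (g ^ i) := fun i => ((dgHom F).map_pow g i).symm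
  have hconj : ∀ (i : ℕ) (b : F), prj F (dg g) ^ i * prj F (up b) =
      prj F (up (((g ^ i : Fˣ) : F) ^ 2 * b)) * prj F (dg g) ^ i := by
    intro i b
    rw [← map_pow, hdgpow, ← map_mul, ← map_mul]
    congr 1
    rw [← mul_inv_eq_iff_eq_mul]
    exact dg_conj_up _ _
  obtain ⟨y, hy⟩ := Frob.exists_orderOf (G := G ⧸ L) V ⟨⟨fun a b => Subtype.ext (hab a a.2 b b.2)⟩⟩ he
    hexp ((φ.comp (upHom F)).range) (c := φ (prj F (dg g))) (by
      rintro _ ⟨b, rfl⟩
      refine ⟨Multiplicative.ofAdd ((g : F) ^ 2 * b.toAdd), ?_⟩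
      have h1 := hconj 1 b.toAdd
      rw [pow_one, pow_one] at h1
      have h2 := congrArg φ h1
      rw [map_mul, map_mul] at h2
      rw [eq_mul_inv_iff_mul_eq]
      exact h2.symm) (by
      rintro i hi0 hi _ ⟨b, rfl⟩ hcomm
      rw [MonoidHom.comp_apply, ← map_pow, ← map_mul, ← map_mul] at hcomm
      have h1 := hφ hcomm
      have h2 : upHom F b = prj F (up b.toAdd) := rfl
      rw [h2, hconj, mul_left_inj] at h1
      have h3 := prj_up_eq h1
      by_cases hb : b.toAdd = 0
      · have : b = 1 := hb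
        rw [this, map_one]
      · exfalso
        have h4 : ((g ^ i : Fˣ) : F) ^ 2 = 1 := mul_right_cancel₀ hb (by rw [h3, one_mul])
        have h5 : (g ^ 2) ^ i = 1 := by
          apply Units.ext
          rw [Units.val_pow_eq_pow_val, Units.val_pow_eq_pow_val, Units.val_one, ← pow_mul, mul_comm, pow_mul,
            ← Units.val_pow_eq_pow_val, h4]
        have h6 := orderOf_dvd_of_pow_eq_one h5
        rw [orderOf_injective φ hφ, Cfsg.Agent.S0812.orderOf_mk_dg] at hi
        exact absurd (Nat.le_of_dvd hi0 h6) (not_le.2 hi)) (by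
      have h1 : Nat.card ((φ.comp (upHom F)).range) ∣ q := by
        have h2 := Subgroup.card_range_dvd (φ.comp (upHom F))
        have h3 : Nat.card (Multiplicative F) = q := by
          rw [Nat.card_congr (Multiplicative.toAdd (α := F)), ← hFq]
          exact Nat.card_eq_fintype_card
        rwa [h3] at h2
      obtain ⟨n, -, hn⟩ := FiniteField.card F p
      rw [← hFq, hn] at h1
      exact Nat.Coprime.coprime_dvd_left h1 (Nat.Coprime.pow_left _ ((Nat.coprime_primes hp.out he).2 hpe)))
    (by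
      by_contra hcon
      push Not at hcon
      obtain ⟨x, hx⟩ := QuotientGroup.mk_surjective (φ (prj F (up 1)))
      have h1 := hcon x (by rw [hx]; exact ⟨Multiplicative.ofAdd 1, rfl⟩)
      have h2 : prj F (up 1) ≠ (1 : PSL2) := by
        intro h
        have : prj F (up 1) = prj F (up 0) := by rw [h, up_zero, map_one]
        exact one_ne_zero (prj_up_eq this)
      have h3 : orderOf (prj F (up (1 : F))) = p := by
        apply orderOf_eq_prime _ h2
        have h4 : ∀ k : ℕ, prj F (up (1 : F)) ^ k = prj F (up (k : F)) := by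
          intro k
          induction k with
          | zero => rw [pow_zero, Nat.cast_zero, up_zero, map_one]
          | succ k ih => rw [pow_succ, ih, ← map_mul, ← up_add, Nat.cast_succ]
        rw [h4, CharP.cast_eq_zero, up_zero, map_one]
      have h5 : p ∣ orderOf x := by
        rw [← h3, ← orderOf_injective φ hφ, ← hx]
        exact orderOf_map_dvd (QuotientGroup.mk' V) x
      obtain ⟨v, hv1⟩ := (Subgroup.ne_bot_iff_exists_ne_one).1 hV0
      have hvo : orderOf (v : G ⧸ L) = e := by
        have := Fact.mk he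
        exact orderOf_eq_prime (hexp v v.2) (fun h => hv1 (Subtype.ext h))
      obtain ⟨k, hk⟩ := h5
      have hpos : 0 < orderOf x := orderOf_pos x
      have hk0 : k ≠ 0 := by rintro rfl; omega
      have hxo : orderOf (x ^ k) = p := by
        rw [orderOf_pow_of_dvd hk0 (by rw [hk]; exact Dvd.intro_left _ rfl), hk,
          Nat.mul_div_cancel _ (Nat.pos_of_ne_zero hk0)]
      have hc : Commute (x ^ k) (v : G ⧸ L) := Commute.pow_left (h1 v v.2) k
      apply hnope (x ^ k * v)
      rw [hc.orderOf_mul_eq_mul_orderOf_of_coprime, hxo, hvo]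
      rw [hxo, hvo]
      exact (Nat.coprime_primes hp.out he).2 hpe)
  rw [hco] at hy
  have h2e := he.two_le
  have hqd : 2 ≤ (q - 1) / d := by
    rcases hd12 with h | h
    · rw [h, Nat.div_one]; omega
    · rw [h] at hdsub ⊢
      omega
  rcases hspec' y with h | h | h
  · rw [hy] at h
    rcases (Nat.dvd_prime hp.out).1 ((Dvd.intro _ rfl).trans h) with h1 | h1
    · omega
    · exact hp_sub' (by rw [h1])
  · rw [hy] at h
    have := Nat.le_of_dvd (by omega) h
    nlinarith
  · rw [hy] at h
    have h1 : (q - 1) / d ∣ (q + 1) / d := (Dvd.intro _ rfl).trans h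
    rcases hd12 with h2 | h2
    · rw [h2, Nat.div_one, Nat.div_one] at h1
      have h3 : q - 1 ∣ (q + 1) - (q - 1) := Nat.dvd_sub h1 dvd_rfl
      have h4 : (q + 1) - (q - 1) = 2 := by omega
      rw [h4] at h3
      have := Nat.le_of_dvd (by norm_num) h3
      omega
    · rw [h2] at h1 hdsub hqd
      have h3 : (q - 1) / 2 ∣ (q + 1) / 2 - (q - 1) / 2 := Nat.dvd_sub h1 dvd_rfl
      have h4 : (q + 1) / 2 - (q - 1) / 2 = 1 := by omega
      rw [h4] at h3
      have := Nat.dvd_one.1 h3
      omega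

end main

end Cfsg.Agent.H371.CoverTwo
end

-- part: H373/Recog
section
set_option linter.all false
open scoped Cfsg.Agent.FastGrp

/-!
# Recognition by spectrum: covers and automorphisms (helper373, team SPEC-L2)

`G` a finite group with the same set of element orders as the finite group `L` (with trivial centre).

* `Cov L` : covers; `AutOk L` : automorphisms;
* `recognize` : `K ⊴ G` solvable, `S ⊴ G ⧸ K` with trivial centralizer, `S ≃* L`, `Cov L`, `AutOk L` : then `G ≃* L`.
-/

set_option autoImplicit false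

namespace Cfsg.Agent.H373.Recog

open Finset Cfsg.Agent.H371.Frob

universe u v w

/-- **Covers.** For every nonzero elementary abelian `p`-group `V` on which `L` acts there are `x : L` and `v : V` with
`∑ x ^ i v ≠ 0` (sum over `i < orderOf x`; it is `(orderOf x) • v` if `v` is fixed by `x`) and `p * orderOf x` is not
an element order of `L`. -/
def Cov (L : Type v) [Group L] : Prop :=
  ∀ (p : ℕ), p.Prime → ∀ (V : Type w) [AddCommGroup V] [Finite V] [Nontrivial V], (∀ v : V, p • v = 0) →
    ∀ φ : L →* AddMonoid.End V, ∃ (x : L) (v : V), ∑ i ∈ range (orderOf x), φ (x ^ i) v ≠ 0 ∧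
      ¬ ∃ y : L, orderOf y = p * orderOf x

/-- **Automorphisms.** -/
def AutOk (L : Type v) [Group L] : Prop :=
  ∀ A : Subgroup (MulAut L), (MulAut.conj : L →* MulAut L).range ≤ A → (∀ a ∈ A, ∃ y : L, orderOf y = orderOf a) →
    A ≤ (MulAut.conj : L →* MulAut L).range

/-- A fixed vector of an element of order prime to `p`. -/
theorem sum_ne_zero_of_fixed {L : Type v} [Group L] {p : ℕ} (hp : p.Prime) {V : Type w} [AddCommGroup V]
    (hV : ∀ v : V, p • v = 0) (φ : L →* AddMonoid.End V) {x : L} {v : V} (hv : v ≠ 0) (hx : φ x v = v)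
    (hpx : ¬ p ∣ orderOf x) : ∑ i ∈ range (orderOf x), φ (x ^ i) v ≠ 0 := by
  have h1 : ∀ i : ℕ, φ (x ^ i) v = v := by
    intro i
    induction i with
    | zero => rw [pow_zero, map_one]; rfl
    | succ i ih =>
      rw [pow_succ, map_mul]
      show φ (x ^ i) (φ x v) = v
      rw [hx, ih]
  rw [sum_congr rfl fun i _ => h1 i, sum_const, card_range]
  intro h2
  have h3 : IsCoprime (orderOf x : ℤ) (p : ℤ) := by
    rw [Nat.isCoprime_iff_coprime]
    exact ((hp.coprime_iff_not_dvd).2 hpx).symm
  obtain ⟨a, b, hab⟩ := h3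
  apply hv
  have h4 : (a * (orderOf x : ℤ) + b * (p : ℤ)) • v = 0 := by
    rw [add_smul, mul_smul, mul_smul, natCast_zsmul, natCast_zsmul, h2, hV, smul_zero, smul_zero, add_zero]
  rwa [hab, one_smul] at h4

/-- The action of `H ⧸ V` on the abelian normal subgroup `V`. -/
noncomputable def act {H : Type u} [Group H] (V : Subgroup H) [V.Normal] (hV : IsMulCommutative V)
    [AddCommGroup (Additive V)] {L : Type v} [Group L] (f : L →* H ⧸ V)
    (hadd : ∀ a b : Additive V, a + b = Additive.ofMul (a.toMul * b.toMul)) :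
    L →* AddMonoid.End (Additive V) where
  toFun l :=
    { toFun := fun v => Additive.ofMul (quotAct V hV (f l) v.toMul)
      map_zero' := by
        have h0 : (0 : Additive V) = Additive.ofMul 1 := by
          have h1 := hadd 0 (Additive.ofMul 1)
          rw [zero_add] at h1
          have h2 : ((0 : Additive V)).toMul * 1 = 1 := by
            have := congrArg Additive.toMul h1
            exact this.symm
          rw [mul_one] at h2
          exact congrArg Additive.ofMul h2
        rw [h0]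
        show Additive.ofMul (quotAct V hV (f l) 1) = _
        rw [map_one]
      map_add' := fun a b => by
        rw [hadd, hadd]
        show Additive.ofMul (quotAct V hV (f l) (a.toMul * b.toMul)) = _
        rw [map_mul]
        rfl }
  map_one' := by
    apply AddMonoidHom.ext
    intro v
    show Additive.ofMul (quotAct V hV (f 1) v.toMul) = v
    rw [map_one, map_one]
    rfl
  map_mul' a b := by
    apply AddMonoidHom.ext
    intro v
    show Additive.ofMul (quotAct V hV (f (a * b)) v.toMul) = Additive.ofMul (quotAct V hV (f a) (quotAct V hV (f b) v.toMul))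
    rw [map_mul, map_mul]
    rfl

/-- **An element of order `p * orderOf x`.** -/
theorem exists_orderOf_mul {H : Type u} [Group H] [Finite H] (V : Subgroup H) [V.Normal]
    (hVc : ∀ x ∈ V, ∀ y ∈ V, x * y = y * x) {p : ℕ} (hp : p.Prime) (hVp : ∀ x ∈ V, x ^ p = 1) (hne : V ≠ ⊥)
    {L : Type v} [Group L] (f : L ≃* H ⧸ V) (hcov : Cov.{v, u} L) :
    ∃ (x : L) (h : H), orderOf h = p * orderOf x ∧ ¬ ∃ y : L, orderOf y = p * orderOf x := by
  have hV : IsMulCommutative V := ⟨⟨fun a b => Subtype.ext (hVc a a.2 b b.2)⟩⟩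
  let _ : CommGroup V := { (inferInstance : Group V) with mul_comm := fun a b => Subtype.ext (hVc a a.2 b b.2) }
  have hnt : Nontrivial (Additive V) := by
    have : Nontrivial V := (Subgroup.nontrivial_iff_ne_bot V).2 hne
    exact inferInstanceAs (Nontrivial V)
  have hfinV : Finite (Additive V) := inferInstanceAs (Finite V)
  let φ : L →* AddMonoid.End (Additive V) := act V hV f.toMonoidHom (fun a b => rfl)
  have hφ : ∀ (l : L) (g : H), (g : H ⧸ V) = f l → ∀ v : V, (((φ l (Additive.ofMul v)).toMul : V) : H) = g * v * g⁻¹ := by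
    intro l g hg v
    show ((quotAct V hV (f l) v : V) : H) = _
    rw [← hg]
    exact quotAct_mk V hV g v
  obtain ⟨x, v, hsum, hno⟩ := hcov p hp (Additive V) (fun v => by
    show Additive.ofMul (v.toMul ^ p) = 0
    have h1 : v.toMul ^ p = 1 := Subtype.ext (hVp _ v.toMul.2)
    rw [h1]; rfl) φ
  obtain ⟨g, hg⟩ := QuotientGroup.mk_surjective (f x)
  set m := orderOf x with hm
  -- powers
  have hpow : ∀ (z : V) (k : ℕ), ((z : H) * g) ^ k =
      (((∑ i ∈ range k, φ (x ^ i) (Additive.ofMul z)).toMul : V) : H) * g ^ k := by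
    intro z k
    induction k with
    | zero => rw [pow_zero, pow_zero, range_zero, sum_empty, mul_one]; rfl
    | succ k ih =>
      rw [pow_succ, ih, sum_range_succ]
      have h1 : ((g ^ k : H) : H ⧸ V) = f (x ^ k) := by rw [QuotientGroup.mk_pow, hg, map_pow]
      have h2 := hφ (x ^ k) (g ^ k) h1 z
      show _ = ((((∑ i ∈ range k, φ (x ^ i) (Additive.ofMul z)).toMul * (φ (x ^ k) (Additive.ofMul z)).toMul : V)) : H) * g ^ (k + 1)
      rw [Subgroup.coe_mul, h2, pow_succ]
      group
  have hordf : orderOf (f x) = m := MulEquiv.orderOf_eq f x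
  have hgm : g ^ m ∈ V := by
    rw [← QuotientGroup.eq_one_iff, QuotientGroup.mk_pow, hg, ← hordf, pow_orderOf_eq_one]
  -- the element
  obtain ⟨h, hh, hhm⟩ : ∃ h : H, (h : H ⧸ V) = f x ∧ h ^ m ≠ 1 := by
    by_cases h1 : g ^ m = 1
    · refine ⟨((v.toMul : V) : H) * g, ?_, ?_⟩
      · rw [QuotientGroup.mk_mul, hg, (QuotientGroup.eq_one_iff _).2 v.toMul.2, one_mul]
      · rw [hpow, h1, mul_one]
        intro h2
        apply hsum
        have h3 : (∑ i ∈ range m, φ (x ^ i) v).toMul = (1 : V) := Subtype.ext h2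
        exact congrArg Additive.ofMul h3
    · exact ⟨g, hg, h1⟩
  have hhV : h ^ m ∈ V := by
    rw [← QuotientGroup.eq_one_iff, QuotientGroup.mk_pow, hh, ← hordf, pow_orderOf_eq_one]
  refine ⟨x, h, ?_, hno⟩
  have h1 : m ∣ orderOf h := by
    rw [← hordf, ← hh]
    exact orderOf_map_dvd (QuotientGroup.mk' V) h
  have h2 : orderOf h ∣ m * p := by
    apply orderOf_dvd_of_pow_eq_one
    rw [pow_mul, hVp _ hhV]
  obtain ⟨j, hj⟩ := h1
  have hmpos : 0 < m := by
    rcases Nat.eq_zero_or_pos m with h0 | h0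
    · rw [h0, zero_mul] at hj
      have := orderOf_pos h
      omega
    · exact h0
  rw [hj] at h2
  rcases (Nat.dvd_prime hp).1 (Nat.dvd_of_mul_dvd_mul_left hmpos h2) with h3 | h3
  · exfalso
    apply hhm
    rw [h3, mul_one] at hj
    rw [← hj, pow_orderOf_eq_one]
  · rw [hj, h3, mul_comm]

/-- Element orders of quotients. -/
theorem exists_lift {G : Type u} [Group G] [Finite G] (K : Subgroup G) [K.Normal] (x : G ⧸ K) :
    ∃ g : G, orderOf g = orderOf x := by
  obtain ⟨g, rfl⟩ := QuotientGroup.mk_surjective x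
  obtain ⟨c, hc⟩ := orderOf_map_dvd (QuotientGroup.mk' K) g
  have hpos := orderOf_pos g
  have hc0 : c ≠ 0 := by
    rintro rfl
    rw [mul_zero] at hc
    omega
  refine ⟨g ^ c, ?_⟩
  rw [orderOf_pow_of_dvd hc0 ⟨_, by rw [hc, mul_comm]⟩, hc, Nat.mul_div_cancel _ (Nat.pos_of_ne_zero hc0)]
  rfl

/-- The simple socle is everything. -/
theorem socle_eq_top {H : Type u} [Group H] {L : Type v} [Group L] (S : Subgroup H) [S.Normal]
    (hS : Subgroup.centralizer (S : Set H) = ⊥) (e : S ≃* L) (hω : ∀ h : H, ∃ y : L, orderOf y = orderOf h)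
    (haut : AutOk L) : S = ⊤ := by
  let ψ : H →* MulAut L := ((MulAut.congr e : MulAut S ≃* MulAut L).toMonoidHom).comp MulAut.conjNormal
  have hinj : Function.Injective ψ := by
    rw [← MonoidHom.ker_eq_bot_iff, eq_bot_iff]
    intro h hh
    rw [← hS, Subgroup.mem_centralizer_iff]
    intro s hs
    have h1 : (MulAut.conjNormal h : MulAut S) = 1 := (MulAut.congr e).injective (by
      rw [map_one]; exact (MonoidHom.mem_ker).1 hh)
    have h2 := congrArg (fun α : MulAut S => ((α ⟨s, hs⟩ : S) : H)) h1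
    simp only [MulAut.conjNormal_apply, MulAut.one_apply] at h2
    rw [mul_inv_eq_iff_eq_mul] at h2
    exact h2.symm
  have hconj : ∀ s : S, ψ (s : H) = MulAut.conj (e s) := by
    intro s
    ext l
    show e ((MulAut.conjNormal (s : H) : MulAut S) (e.symm l)) = _
    rw [MulAut.conj_apply]
    have h1 : (MulAut.conjNormal (s : H) : MulAut S) (e.symm l) = s * e.symm l * s⁻¹ := by
      apply Subtype.ext
      rw [MulAut.conjNormal_apply]
      rfl
    rw [h1, map_mul, map_mul, map_inv, MulEquiv.apply_symm_apply]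
  rw [eq_top_iff]
  intro h _
  have h1 : ψ.range ≤ (MulAut.conj : L →* MulAut L).range := by
    apply haut
    · rintro _ ⟨l, rfl⟩
      exact ⟨(e.symm l : S), by rw [hconj, MulEquiv.apply_symm_apply]⟩
    · rintro _ ⟨x, rfl⟩
      obtain ⟨y, hy⟩ := hω x
      exact ⟨y, by rw [hy, orderOf_injective ψ hinj]⟩
  obtain ⟨l, hl⟩ := h1 ⟨h, rfl⟩
  have h2 : ψ ((e.symm l : S) : H) = ψ h := by rw [hconj, MulEquiv.apply_symm_apply, hl]
  rw [← hinj h2]
  exact (e.symm l).2

/-- **The assembly.** -/
theorem recognize {G : Type u} [Group G] [Finite G] {L : Type v} [Group L]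
    (hω : Set.range (orderOf : G → ℕ) = Set.range (orderOf : L → ℕ))
    (K : Subgroup G) [K.Normal] (hK : Group.IsSolvable ↥K) (S : Subgroup (G ⧸ K)) [S.Normal]
    (hS : Subgroup.centralizer (S : Set (G ⧸ K)) = ⊥) (e : S ≃* L) (hcov : Cov.{v, u} L) (haut : AutOk L) :
    Nonempty (G ≃* L) := by
  have hω' : ∀ g : G, ∃ y : L, orderOf y = orderOf g := by
    intro g
    have h1 : orderOf g ∈ Set.range (orderOf : L → ℕ) := hω ▸ ⟨g, rfl⟩
    obtain ⟨y, hy⟩ := h1
    exact ⟨y, hy⟩
  have htop := socle_eq_top S hS e (fun h => by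
    obtain ⟨g, hg⟩ := exists_lift K h
    rw [← hg]
    exact hω' g) haut
  subst htop
  let f : L ≃* G ⧸ K := e.symm.trans Subgroup.topEquiv
  by_cases hK0 : K = ⊥
  · subst hK0
    exact ⟨(QuotientGroup.quotientBot (G := G)).symm.trans f.symm⟩
  · exfalso
    obtain ⟨N, hN, hNK, hVne, hVc, p, hp, -, hVp⟩ := Cfsg.Agent.H371.CoverTwo.exists_chief K hK hK0
    have hVn : (K.map (QuotientGroup.mk' N)).Normal :=
      Subgroup.Normal.map inferInstance _ (QuotientGroup.mk'_surjective N)
    let f' : L ≃* (G ⧸ N) ⧸ K.map (QuotientGroup.mk' N) :=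
      f.trans (QuotientGroup.quotientQuotientEquivQuotient N K hNK).symm
    obtain ⟨x, h, hh, hno⟩ := exists_orderOf_mul (K.map (QuotientGroup.mk' N)) hVc hp hVp hVne f' hcov
    obtain ⟨g, hg⟩ := exists_lift N h
    obtain ⟨y, hy⟩ := hω' g
    exact hno ⟨y, by rw [hy, hg, hh]⟩

end Cfsg.Agent.H373.Recog
end
end
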