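import Mathlib
import Cfsg.Agent.LieClassical.HermSiegel
import Cfsg.Agent.LieClassical.GUOrder
import Cfsg.Agent.Prune
set_option linter.all false
prune_inst 0x7f00000000000000000000000000000000000000000000000000000000000000000000000000000000000000000000000000000000000000000000000000000000000000000000000000000000000000003fffffffffffffffffffffffffffbeffbdffffffff
open scoped Cfsg.Agent.FastGrp

-- part: H373/Eig
section
/-!
# Eigenvalues of unitary matrices over the algebraic closure (helper373)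
-/

set_option autoImplicit false
set_option linter.unusedSectionVars false

namespace Cfsg.Agent.H373.Eig

open Module Matrix

variable {K : Type*} [Field K] {n : ℕ}

/-- An eigenbasis with distinct eigenvalues. -/
structure Diag (A : Matrix (Fin n) (Fin n) K) (l : Fin n → K) (w : Fin n → Fin n → K) : Prop where
  inj : Function.Injective l
  ne : ∀ i, w i ≠ 0
  eq : ∀ i, A *ᵥ w i = l i • w i

variable {A Y : Matrix (Fin n) (Fin n) K} {l : Fin n → K} {w : Fin n → Fin n → K}

theorem Diag.li (h : Diag A l w) : LinearIndependent K w := by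
  refine End.eigenvectors_linearIndependent' (Matrix.toLin' A) l h.inj w fun i => ?_
  rw [End.hasEigenvector_iff, End.mem_eigenspace_iff]
  exact ⟨by rw [Matrix.toLin'_apply]; exact h.eq i, h.ne i⟩

/-- The basis. -/
noncomputable def Diag.basis (h : Diag A l w) : Basis (Fin n) K (Fin n → K) :=
  basisOfLinearIndependentOfCardEqFinrank' w h.li (by simp)

theorem Diag.basis_apply (h : Diag A l w) (i : Fin n) : h.basis i = w i := by
  rw [Diag.basis, coe_basisOfLinearIndependentOfCardEqFinrank']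

/-- A matrix commuting with `A` is diagonal in the eigenbasis. -/
theorem Diag.exists_eigen (h : Diag A l w) (hc : A * Y = Y * A) : ∃ z : Fin n → K, ∀ i, Y *ᵥ w i = z i • w i := by
  have key : ∀ i, ∃ c : K, Y *ᵥ w i = c • w i := by
    intro i
    set v := Y *ᵥ w i with hv
    have h1 : A *ᵥ v = l i • v := by
      rw [hv, Matrix.mulVec_mulVec, hc, ← Matrix.mulVec_mulVec, h.eq, Matrix.mulVec_smul]
    have h2 := h.basis.sum_repr v
    refine ⟨h.basis.repr v i, ?_⟩
    have h3 : ∀ j, h.basis.repr v j * l j = l i * h.basis.repr v j := by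
      intro j
      have h4 : h.basis.repr (A *ᵥ v) j = h.basis.repr v j * l j := by
        have h5 : A *ᵥ v = ∑ k, (h.basis.repr v k * l k) • h.basis k := by
          conv_lhs => rw [← h2]
          rw [← Matrix.toLin'_apply, map_sum]
          refine Finset.sum_congr rfl fun k _ => ?_
          rw [map_smul, Matrix.toLin'_apply, h.basis_apply, h.eq, smul_smul]
        rw [h5, map_sum, Finsupp.finsetSum_apply]
        simp [Finsupp.single_apply]
      rw [← h4, h1, map_smul]
      rfl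
    have h6 : ∀ j, j ≠ i → h.basis.repr v j = 0 := by
      intro j hj
      have h7 : h.basis.repr v j * (l j - l i) = 0 := by
        rw [mul_sub, h3 j]; ring
      rcases mul_eq_zero.1 h7 with h8 | h8
      · exact h8
      · exact absurd (h.inj (sub_eq_zero.1 h8)) hj
    conv_lhs => rw [← h2]
    rw [Finset.sum_eq_single i (fun j _ hj => by rw [h6 j hj, zero_smul]) (fun hi => absurd (Finset.mem_univ i) hi),
      h.basis_apply]
  choose z hz using key
  exact ⟨z, hz⟩

/-- The matrix with the eigenvectors as columns. -/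
theorem Diag.det_eq (h : Diag A l w) {z : Fin n → K} (hz : ∀ i, Y *ᵥ w i = z i • w i) : Y.det = ∏ i, z i := by
  have h1 : LinearMap.toMatrix h.basis h.basis (Matrix.toLin' Y) = Matrix.diagonal z := by
    ext i j
    rw [LinearMap.toMatrix_apply, h.basis_apply, Matrix.toLin'_apply, hz, ← h.basis_apply, map_smul,
      Basis.repr_self, Finsupp.smul_apply, Finsupp.single_apply, Matrix.diagonal_apply]
    by_cases hij : i = j
    · subst hij; simp
    · rw [if_neg hij, if_neg (Ne.symm hij), smul_zero]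
  rw [← Matrix.det_diagonal, ← h1, LinearMap.det_toMatrix, LinearMap.det_toLin']

theorem Diag.eq_one (h : Diag A l w) (hz : ∀ i, Y *ᵥ w i = w i) : Y = 1 := by
  have h1 : Matrix.toLin' Y = LinearMap.id := by
    apply h.basis.ext
    intro i
    rw [h.basis_apply, Matrix.toLin'_apply, hz, LinearMap.id_apply]
  rw [← Matrix.toLin'_one] at h1
  exact Matrix.toLin'.injective h1

theorem Diag.exists_dot (h : Diag A l w) {u : Fin n → K} (hu : u ≠ 0) : ∃ i, u ⬝ᵥ w i ≠ 0 := by
  by_contra hno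
  push Not at hno
  apply hu
  have h1 : ∀ v : Fin n → K, u ⬝ᵥ v = 0 := by
    intro v
    rw [← h.basis.sum_repr v, dotProduct_sum]
    refine Finset.sum_eq_zero fun i _ => ?_
    rw [dotProduct_smul, h.basis_apply, hno, smul_zero]
  exact dotProduct_eq_zero u h1

/-! ### The unitary condition -/

variable (φ : K →+* K)

theorem map_mulVec (M : Matrix (Fin n) (Fin n) K) (v : Fin n → K) : M.map φ *ᵥ (φ ∘ v) = φ ∘ (M *ᵥ v) := by
  funext i
  simp only [Matrix.mulVec, dotProduct, Matrix.map_apply, Function.comp, map_sum, map_mul]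

/-- The conjugate of an eigenvector is an eigenvector of the transpose. -/
theorem transpose_eigen (hA : Aᵀ * A.map φ = 1) {c : K} {v : Fin n → K} (hv : v ≠ 0) (h : A *ᵥ v = c • v) :
    c ≠ 0 ∧ Aᵀ *ᵥ (φ ∘ v) = (φ c)⁻¹ • (φ ∘ v) := by
  have h1 : A.map φ *ᵥ (φ ∘ v) = φ c • (φ ∘ v) := by
    rw [map_mulVec, h]
    funext i
    simp [map_mul]
  have hv' : φ ∘ v ≠ 0 := by
    intro h2
    apply hv
    funext i
    have := congrFun h2 i
    exact φ.injective (this.trans (map_zero φ).symm)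
  have h2 : φ ∘ v = φ c • (Aᵀ *ᵥ (φ ∘ v)) := by
    rw [← Matrix.mulVec_smul, ← h1, Matrix.mulVec_mulVec, hA, Matrix.one_mulVec]
  have hc : φ c ≠ 0 := by
    intro h3
    rw [h3, zero_smul] at h2
    exact hv' h2
  refine ⟨fun h3 => hc (by rw [h3, map_zero]), ?_⟩
  conv_rhs => rw [h2]
  rw [smul_smul, inv_mul_cancel₀ hc, one_smul]

theorem exists_eigenvector_of_transpose {c : K} {v : Fin n → K} (hv : v ≠ 0) (h : Aᵀ *ᵥ v = c • v) :
    ∃ v' : Fin n → K, v' ≠ 0 ∧ A *ᵥ v' = c • v' := by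
  have h1 : (Aᵀ - c • (1 : Matrix (Fin n) (Fin n) K)).det = 0 := by
    rw [← Matrix.exists_mulVec_eq_zero_iff]
    refine ⟨v, hv, ?_⟩
    rw [Matrix.sub_mulVec, h, Matrix.smul_mulVec, Matrix.one_mulVec, sub_self]
  have h2 : (A - c • (1 : Matrix (Fin n) (Fin n) K)).det = 0 := by
    rw [← Matrix.det_transpose, Matrix.transpose_sub, Matrix.transpose_smul, Matrix.transpose_one]
    exact h1
  obtain ⟨v', hv', h3⟩ := Matrix.exists_mulVec_eq_zero_iff.2 h2
  refine ⟨v', hv', ?_⟩
  rw [Matrix.sub_mulVec, Matrix.smul_mulVec, Matrix.one_mulVec] at h3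
  exact sub_eq_zero.1 h3

/-- Eigenvalues are closed under `c ↦ c ^ (-q)`. -/
theorem eigen_step (hA : Aᵀ * A.map φ = 1) {c : K} {v : Fin n → K} (hv : v ≠ 0) (h : A *ᵥ v = c • v) :
    ∃ v' : Fin n → K, v' ≠ 0 ∧ A *ᵥ v' = (φ c)⁻¹ • v' := by
  obtain ⟨-, h1⟩ := transpose_eigen φ hA hv h
  refine exists_eigenvector_of_transpose (v := φ ∘ v) ?_ h1
  intro h2
  apply hv
  funext i
  have := congrFun h2 i
  exact φ.injective (this.trans (map_zero φ).symm)

/-- The same for the eigenvalues of commuting matrices. -/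
theorem Diag.step (h : Diag A l w) (hA : Aᵀ * A.map φ = 1) (hY : Yᵀ * Y.map φ = 1) {z : Fin n → K}
    (hz : ∀ i, Y *ᵥ w i = z i • w i) (i : Fin n) : ∃ j, l j = (φ (l i))⁻¹ ∧ z j = (φ (z i))⁻¹ := by
  obtain ⟨-, h1⟩ := transpose_eigen φ hA (h.ne i) (h.eq i)
  obtain ⟨-, h2⟩ := transpose_eigen φ hY (h.ne i) (hz i)
  have hne : φ ∘ w i ≠ 0 := by
    intro h2
    apply h.ne i
    funext k
    have := congrFun h2 k
    exact φ.injective (this.trans (map_zero φ).symm)
  obtain ⟨j, hj⟩ := h.exists_dot hne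
  refine ⟨j, ?_, ?_⟩
  · have h3 : (φ ∘ w i) ⬝ᵥ (A *ᵥ w j) = (Aᵀ *ᵥ (φ ∘ w i)) ⬝ᵥ w j := by
      rw [Matrix.dotProduct_mulVec, Matrix.mulVec_transpose]
    rw [h.eq, h1, dotProduct_smul, smul_dotProduct] at h3
    exact mul_right_cancel₀ hj h3
  · have h3 : (φ ∘ w i) ⬝ᵥ (Y *ᵥ w j) = (Yᵀ *ᵥ (φ ∘ w i)) ⬝ᵥ w j := by
      rw [Matrix.dotProduct_mulVec, Matrix.mulVec_transpose]
    rw [hz, h2, dotProduct_smul, smul_dotProduct] at h3
    exact mul_right_cancel₀ hj h3

/-- A matrix of order prime to the characteristic, different from `1`, has an eigenvalue different from `1`. -/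
theorem exists_eigen_ne_one [IsAlgClosed K] {p : ℕ} [Fact p.Prime] [CharP K p] {s : ℕ} (hs : Nat.Coprime s p)
    (hA : A ^ s = 1) (hA1 : A ≠ 1) : ∃ (c : K) (v : Fin n → K), v ≠ 0 ∧ A *ᵥ v = c • v ∧ c ≠ 1 ∧ c ^ s = 1 := by
  have hpow : ∀ (c : K) (v : Fin n → K), A *ᵥ v = c • v → ∀ k, (A ^ k) *ᵥ v = c ^ k • v := by
    intro c v h k
    induction k with
    | zero => rw [pow_zero, pow_zero, one_smul, Matrix.one_mulVec]
    | succ k ih => rw [pow_succ, ← Matrix.mulVec_mulVec, h, Matrix.mulVec_smul, ih, smul_smul, pow_succ, mul_comm]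
  have hroot : ∀ c ∈ A.charpoly.roots, ∃ v : Fin n → K, v ≠ 0 ∧ A *ᵥ v = c • v := by
    intro c hc
    have h1 := (Polynomial.mem_roots'.1 hc).2
    rw [Polynomial.IsRoot, Matrix.eval_charpoly] at h1
    obtain ⟨v, hv, h2⟩ := Matrix.exists_mulVec_eq_zero_iff.2 h1
    refine ⟨v, hv, ?_⟩
    rw [Matrix.sub_mulVec] at h2
    rw [← sub_eq_zero.1 h2]
    funext i
    simp [Matrix.scalar_apply, Matrix.mulVec_diagonal]
  by_contra hno
  push Not at hno
  have h1 : ∀ c ∈ A.charpoly.roots, c = 1 := by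
    intro c hc
    obtain ⟨v, hv, h2⟩ := hroot c hc
    by_contra hc1
    refine hno c v hv h2 hc1 ?_
    have h3 := hpow c v h2 s
    rw [hA, Matrix.one_mulVec] at h3
    have h4 : (c ^ s - 1) • v = 0 := by rw [sub_smul, one_smul, ← h3, sub_self]
    rcases smul_eq_zero.1 h4 with h5 | h5
    · exact sub_eq_zero.1 h5
    · exact absurd h5 hv
  have h2 : A.charpoly = (Polynomial.X - Polynomial.C 1) ^ Multiset.card A.charpoly.roots := by
    have h3 := (IsAlgClosed.splits A.charpoly).eq_prod_roots_of_monic (Matrix.charpoly_monic A)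
    have h4 : A.charpoly.roots = Multiset.replicate (Multiset.card A.charpoly.roots) 1 :=
      Multiset.eq_replicate_card.2 h1
    conv_lhs => rw [h3, h4]
    rw [Multiset.map_replicate, Multiset.prod_replicate]
  have h3 := Matrix.aeval_self_charpoly A
  rw [h2] at h3
  simp only [map_pow, map_sub, Polynomial.aeval_X, map_one] at h3
  set N := Multiset.card A.charpoly.roots with hN
  -- `(A - 1) ^ (p ^ N) = 0`
  have h4 : (A - 1) ^ (p ^ N) = 0 := by
    have h5 : N ≤ p ^ N := (Nat.lt_pow_self (Fact.out : p.Prime).one_lt).le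
    obtain ⟨k, hk⟩ := Nat.exists_eq_add_of_le h5
    rw [hk, pow_add, h3, zero_mul]
  have h5 : A ^ (p ^ N) = 1 := by
    rcases Nat.eq_zero_or_pos n with rfl | hn
    · exact Subsingleton.elim _ _
    · have : Nonempty (Fin n) := ⟨⟨0, hn⟩⟩
      have h6 := sub_pow_char_pow_of_commute (R := Matrix (Fin n) (Fin n) K) (p := p) (n := N)
        (Commute.one_right A)
      rw [one_pow, h4] at h6
      exact (sub_eq_zero.1 h6.symm)
  apply hA1
  have h6 : Nat.Coprime s (p ^ N) := Nat.Coprime.pow_right _ hs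
  have h7 : orderOf A ∣ 1 := by
    rw [← h6]
    exact Nat.dvd_gcd (orderOf_dvd_of_pow_eq_one hA) (orderOf_dvd_of_pow_eq_one h5)
  exact orderOf_eq_one_iff.1 (Nat.dvd_one.1 h7)

end Cfsg.Agent.H373.Eig
end

-- part: H373/Tori
section
/-!
# Centralizers of some elements of prime order of `SU 5 F q` (helper373)
-/

set_option autoImplicit false
set_option linter.unusedSectionVars false

namespace Cfsg.Agent.H373.Tori

open Cfsg Module Matrix Cfsg.Agent.LieClassical.HermBasic Cfsg.Agent.LieClassical.HermSiegel Cfsg.Agent.H373.Eig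

variable {F : Type*} [Field F] [Fintype F] {q : ℕ}

section Common

variable (hF : Fintype.card F = q ^ 2)

include hF in
/-- The `q`-power map on the algebraic closure. -/
theorem exists_phi : ∃ φ : AlgebraicClosure F →+* AlgebraicClosure F, ∀ x, φ x = x ^ q := by
  obtain ⟨p, k, hp, hchar, hk, -⟩ := exists_prime_pow hF
  have := Fact.mk hp
  have : CharP (AlgebraicClosure F) p := charP_of_injective_algebraMap (algebraMap F _).injective p
  exact ⟨iterateFrobenius (AlgebraicClosure F) p k, fun x => by rw [iterateFrobenius_def, hk]⟩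

/-- The matrix over the algebraic closure. -/
noncomputable def hat {n : ℕ} (g : SU n F q) : Matrix (Fin n) (Fin n) (AlgebraicClosure F) :=
  (mat g).map (algebraMap F (AlgebraicClosure F))

theorem hat_mul {n : ℕ} (g h : SU n F q) : hat (g * h) = hat g * hat h := by
  rw [hat, mat_mul, Matrix.map_mul]; rfl

theorem hat_one {n : ℕ} : hat (1 : SU n F q) = 1 := by
  rw [hat, mat_one, Matrix.map_one _ (map_zero _) (map_one _)]

theorem hat_pow {n : ℕ} (g : SU n F q) (k : ℕ) : hat (g ^ k) = hat g ^ k := by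
  induction k with
  | zero => rw [pow_zero, pow_zero, hat_one]
  | succ k ih => rw [pow_succ, pow_succ, hat_mul, ih]

theorem hat_injective {n : ℕ} : Function.Injective (hat : SU n F q → _) := by
  intro g h hgh
  apply mat_injective
  ext i j
  have := congrFun (congrFun hgh i) j
  exact (algebraMap F (AlgebraicClosure F)).injective this

theorem det_hat {n : ℕ} (g : SU n F q) : (hat g).det = 1 := by
  rw [hat, ← RingHom.mapMatrix_apply, ← RingHom.map_det, det_mat, map_one]

include hF in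
theorem hat_unitary {n : ℕ} (φ : AlgebraicClosure F →+* AlgebraicClosure F) (hφ : ∀ x, φ x = x ^ q) (g : SU n F q) :
    (hat g)ᵀ * (hat g).map φ = 1 := by
  have h := (LieClassical.GUOrder.mul_map_eq_one_iff hF (mat g)).1 (fun u v => herm_act g u v)
  have h1 := congrArg (fun M : Matrix (Fin n) (Fin n) F => M.map (algebraMap F (AlgebraicClosure F))) h
  simp only [Matrix.map_mul] at h1
  rw [Matrix.map_one _ (map_zero _) (map_one _)] at h1
  rw [← h1]
  congr 1
  ext i j
  simp only [hat, Matrix.map_apply]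
  rw [hφ, ← map_pow]
  rfl

/-- `(x ^ e) ^ q` inverted. -/
theorem phi_zpow (φ : AlgebraicClosure F →+* AlgebraicClosure F) (hφ : ∀ x, φ x = x ^ q) (x : AlgebraicClosure F)
    (e : ℤ) : (φ (x ^ e))⁻¹ = x ^ (e * (-(q : ℤ))) := by
  rw [hφ, ← _root_.zpow_natCast, ← _root_.zpow_mul, mul_neg, _root_.zpow_neg]

/-- The order of the centralizer is a divisor of `N`, if there is a faithful linear character with values of
order dividing `N`. -/
theorem card_dvd {G : Type*} [Group G] [Finite G] {K : Type*} [Field K] (θ : G →* K) (hθ : Function.Injective θ) {N : ℕ}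
    (hN : ∀ g, θ g ^ N = 1) : Nat.card G ∣ N := by
  have : IsCyclic G := isCyclic_of_injective_ringHom θ hθ
  obtain ⟨g, hg⟩ := IsCyclic.exists_generator (α := G)
  rw [← orderOf_eq_card_of_forall_mem_zpowers hg]
  apply orderOf_dvd_of_pow_eq_one
  apply hθ
  rw [map_pow, hN, map_one]

/-- The character of the centralizer afforded by an eigenvector. -/
theorem exists_char {n : ℕ} (C : Subgroup (SU n F q)) {w : Fin n → AlgebraicClosure F} (hw : w ≠ 0)
    (h : ∀ g ∈ C, ∃ c : AlgebraicClosure F, hat g *ᵥ w = c • w) :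
    ∃ θ : C →* AlgebraicClosure F, ∀ g : C, hat (g : SU n F q) *ᵥ w = θ g • w := by
  choose f hf using fun g : C => h g g.2
  have huniq : ∀ a b : AlgebraicClosure F, a • w = b • w → a = b := by
    intro a b hab
    have : (a - b) • w = 0 := by rw [sub_smul, hab, sub_self]
    rcases smul_eq_zero.1 this with h | h
    · exact sub_eq_zero.1 h
    · exact absurd h hw
  refine ⟨⟨⟨f, ?_⟩, ?_⟩, hf⟩
  · apply huniq
    rw [← hf, OneMemClass.coe_one, hat_one, Matrix.one_mulVec, one_smul]
  · intro a b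
    apply huniq
    show f (a * b) • w = (f a * f b) • w
    rw [← hf, Subgroup.coe_mul, hat_mul, ← Matrix.mulVec_mulVec, hf, Matrix.mulVec_smul, hf, smul_smul, mul_comm]

/-- Exponents modulo `s`. -/
theorem zpow_eq_iff {K : Type*} [Field K] {c : K} {s : ℕ} (hs : s.Prime) (hc : c ^ s = 1) (hc1 : c ≠ 1) (a b : ℤ) :
    c ^ a = c ^ b ↔ (a : ZMod s) = b := by
  have hc0 : c ≠ 0 := by
    rintro rfl
    rw [zero_pow hs.ne_zero] at hc
    exact zero_ne_one hc
  set u := Units.mk0 c hc0 with hu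
  have ho : orderOf u = s := by
    have := Fact.mk hs
    apply orderOf_eq_prime
    · apply Units.ext
      rw [Units.val_pow_eq_pow_val]
      exact hc
    · intro h
      exact hc1 (congrArg Units.val h)
  have h1 : c ^ a = c ^ b ↔ u ^ a = u ^ b := by
    rw [← Units.val_inj, Units.val_zpow_eq_zpow_val, Units.val_zpow_eq_zpow_val, hu, Units.val_mk0]
  rw [h1, ← orderOf_dvd_sub_iff_zpow_eq_zpow, ho, ← ZMod.intCast_zmod_eq_zero_iff_dvd]
  push_cast
  rw [sub_eq_zero]

/-- The starting eigenvalue and its images under `c ↦ c ^ (-q)`. -/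
theorem exists_start {n s : ℕ} (p : ℕ) [Fact p.Prime] [CharP F p] (hs : s.Prime) (hsp : s ≠ p)
    (φ : AlgebraicClosure F →+* AlgebraicClosure F) (hφ : ∀ x, φ x = x ^ q) {x : SU n F q} (hx : orderOf x = s)
    (hF : Fintype.card F = q ^ 2) :
    ∃ c : AlgebraicClosure F, c ^ s = 1 ∧ c ≠ 1 ∧
      ∀ i : ℕ, ∃ v : Fin n → AlgebraicClosure F, v ≠ 0 ∧ hat x *ᵥ v = (c ^ ((-(q : ℤ)) ^ i)) • v := by
  have : CharP (AlgebraicClosure F) p := charP_of_injective_algebraMap (algebraMap F _).injective p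
  have hs1 : hat x ^ s = 1 := by rw [← hat_pow, ← hx, pow_orderOf_eq_one, hat_one]
  have hx1 : hat x ≠ 1 := by
    intro h
    have h2 : x = 1 := hat_injective (h.trans hat_one.symm)
    rw [h2, orderOf_one] at hx
    exact hs.one_lt.ne hx
  have hcop : Nat.Coprime s p := (Nat.coprime_primes hs Fact.out).2 hsp
  obtain ⟨c, v, hv, hcv, hc1, hcs⟩ := exists_eigen_ne_one (p := p) hcop hs1 hx1
  refine ⟨c, hcs, hc1, fun i => ?_⟩
  induction i with
  | zero => exact ⟨v, hv, by rw [pow_zero, zpow_one]; exact hcv⟩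
  | succ i ih =>
    obtain ⟨v', hv', h⟩ := ih
    obtain ⟨v'', hv'', h'⟩ := eigen_step φ (hat_unitary hF φ hφ x) hv' h
    refine ⟨v'', hv'', ?_⟩
    rw [phi_zpow φ hφ] at h'
    rw [h', pow_succ]

/-- An element acting by eigenvalues `1` is trivial. -/
theorem eq_one_of_hat {n : ℕ} {l : Fin n → AlgebraicClosure F} {w : Fin n → Fin n → AlgebraicClosure F} {x g : SU n F q}
    (hD : Diag (hat x) l w) (h : ∀ i, hat g *ᵥ w i = w i) : g = 1 :=
  hat_injective ((hD.eq_one h).trans hat_one.symm)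

end Common

/-! ### The torus of order `q ^ 4 - q ^ 3 + q ^ 2 - q + 1` -/

section Ten

end Ten

/-! ### The torus of order `q ^ 4 - 1` -/

section Four

/-- The order of `t` modulo `s` when `s` divides `t ^ 2 + 1`. -/
theorem order_four {s : ℕ} (hs : s.Prime) (h2 : s ≠ 2) {t : ZMod s} (ht : t ^ 2 + 1 = 0) :
    orderOf t = 4 := by
  have := Fact.mk hs
  have h22 : Fact (Nat.Prime 2) := ⟨Nat.prime_two⟩
  refine orderOf_eq_prime_pow (p := 2) (n := 1) ?_ ?_
  · rw [pow_one]
    intro h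
    rw [h] at ht
    have h1 : ((2 : ℕ) : ZMod s) = 0 := by
      push_cast
      linear_combination ht
    rw [ZMod.natCast_eq_zero_iff] at h1
    exact h2 ((Nat.prime_dvd_prime_iff_eq hs (by norm_num)).1 h1)
  · show t ^ 4 = 1
    linear_combination (t ^ 2 - 1) * ht

theorem exists_eigen_of_root {n : ℕ} {K : Type*} [Field K] {A : Matrix (Fin n) (Fin n) K} {c : K}
    (hc : c ∈ A.charpoly.roots) : ∃ v : Fin n → K, v ≠ 0 ∧ A *ᵥ v = c • v := by
  have h1 := (Polynomial.mem_roots'.1 hc).2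
  rw [Polynomial.IsRoot, Matrix.eval_charpoly] at h1
  obtain ⟨v, hv, h2⟩ := Matrix.exists_mulVec_eq_zero_iff.2 h1
  refine ⟨v, hv, ?_⟩
  rw [Matrix.sub_mulVec] at h2
  rw [← sub_eq_zero.1 h2]
  funext i
  simp [Matrix.scalar_apply, Matrix.mulVec_diagonal]

theorem root_of_eigen {n : ℕ} {K : Type*} [Field K] {A : Matrix (Fin n) (Fin n) K} {c : K}
    {v : Fin n → K} (hv : v ≠ 0) (h : A *ᵥ v = c • v) : c ∈ A.charpoly.roots := by
  rw [Polynomial.mem_roots']
  refine ⟨(Matrix.charpoly_monic A).ne_zero, ?_⟩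
  rw [Polynomial.IsRoot, Matrix.eval_charpoly, ← Matrix.exists_mulVec_eq_zero_iff]
  refine ⟨v, hv, ?_⟩
  rw [Matrix.sub_mulVec, h]
  funext i
  simp [Matrix.scalar_apply, Matrix.mulVec_diagonal]

/-- A matrix of determinant one with four distinct eigenvalues of product one has the eigenvalue one. -/
theorem exists_fifth {K : Type*} [Field K] [IsAlgClosed K] {A : Matrix (Fin 5) (Fin 5) K} (hdet : A.det = 1)
    {l : Fin 4 → K} (hinj : Function.Injective l) (hprod : ∏ i, l i = 1)
    (h : ∀ i, ∃ v : Fin 5 → K, v ≠ 0 ∧ A *ᵥ v = l i • v) : ∃ v : Fin 5 → K, v ≠ 0 ∧ A *ᵥ v = v := by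
  classical
  set R := A.charpoly.roots with hR
  have hcard : Multiset.card R = 5 := by
    rw [hR, (IsAlgClosed.splits A.charpoly).natDegree_eq_card_roots.symm, Matrix.charpoly_natDegree_eq_dim]
    rfl
  let T : Finset K := Finset.univ.image l
  have hT : T.val ≤ R := by
    rw [Multiset.le_iff_subset T.nodup]
    intro c hc
    obtain ⟨i, -, rfl⟩ := Finset.mem_image.1 (show c ∈ T from hc)
    obtain ⟨v, hv, h'⟩ := h i
    exact root_of_eigen hv h'
  have hTc : T.card = 4 := by
    rw [Finset.card_image_of_injective _ hinj]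
    rfl
  obtain ⟨U, hU⟩ := Multiset.le_iff_exists_add.1 hT
  have hUc : Multiset.card U = 1 := by
    have h1 := congrArg Multiset.card hU
    rw [Multiset.card_add, hcard] at h1
    have h2 : Multiset.card T.val = 4 := hTc
    omega
  obtain ⟨c, hc⟩ := Multiset.card_eq_one.1 hUc
  have h1 : R.prod = 1 := by rw [hR, ← Matrix.det_eq_prod_roots_charpoly, hdet]
  rw [hU, Multiset.prod_add, hc, Multiset.prod_singleton] at h1
  have h2 : T.val.prod = 1 := by
    have h3 : T.prod id = T.val.prod := by rw [Finset.prod]; simp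
    rw [← h3, Finset.prod_image (fun a _ b _ hab => hinj hab)]
    exact hprod
  rw [h2, one_mul] at h1
  have h3 : (1 : K) ∈ R := by
    rw [hU, hc, h1]
    simp
  obtain ⟨v, hv, h'⟩ := exists_eigen_of_root h3
  exact ⟨v, hv, by rw [h', one_smul]⟩

/-- **Centralizers of elements of odd prime order `s ∣ q ^ 2 + 1`.** -/
theorem card_centralizer_four (hF : Fintype.card F = q ^ 2) (p : ℕ) [Fact p.Prime] [CharP F p] {s : ℕ} (hs : s.Prime)
    (hsp : s ≠ p) (h2 : s ≠ 2) (hsM : s ∣ q ^ 2 + 1)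
    {x : SU 5 F q} (hx : orderOf x = s) : Nat.card (Subgroup.centralizer ({x} : Set (SU 5 F q))) ∣ q ^ 4 - 1 := by
  classical
  obtain ⟨φ, hφ⟩ := exists_phi hF
  obtain ⟨c, hcs, hc1, hev⟩ := exists_start p hs hsp φ hφ hx hF
  have hx' := hat_unitary hF φ hφ x
  set t : ℤ := -(q : ℤ) with ht
  have hts : ((t : ℤ) : ZMod s) ^ 2 + 1 = 0 := by
    have h1 : (((q ^ 2 + 1 : ℕ) : ℤ) : ZMod s) = 0 := by
      rw [ZMod.intCast_zmod_eq_zero_iff_dvd]
      exact_mod_cast hsM
    push_cast at h1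
    rw [ht]
    push_cast
    linear_combination h1
  have ht4 : orderOf ((t : ℤ) : ZMod s) = 4 := order_four hs h2 hts
  choose v hv hvx using hev
  have hinj4 : ∀ i j : ℕ, i < 4 → j < 4 → c ^ (t ^ i) = c ^ (t ^ j) → i = j := by
    intro i j hi hj hij
    have h1 := (zpow_eq_iff hs hcs hc1 _ _).1 hij
    push_cast at h1
    exact pow_injOn_Iio_orderOf (x := ((t : ℤ) : ZMod s)) (by rw [ht4]; exact hi) (by rw [ht4]; exact hj) h1
  have hne1 : ∀ i : ℕ, c ^ (t ^ i) ≠ 1 := by
    intro i hi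
    have h1 : c ^ (t ^ i) = c ^ (0 : ℤ) := by rw [hi, _root_.zpow_zero]
    have h3 := (zpow_eq_iff hs hcs hc1 _ _).1 h1
    push_cast at h3
    have := Fact.mk hs
    have h4 := eq_zero_of_pow_eq_zero h3
    rw [h4] at hts
    simp at hts
  obtain ⟨v', hv', hvx'⟩ := exists_fifth (A := hat x) (det_hat x) (l := fun i : Fin 4 => c ^ (t ^ (i : ℕ)))
    (fun i j hij => Fin.ext (hinj4 i j i.2 j.2 hij)) (by
      have hc0 : c ≠ 0 := by
        rintro rfl
        rw [zero_pow hs.ne_zero] at hcs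
        exact zero_ne_one hcs
      rw [Fin.prod_univ_four, ← zpow_add₀ hc0, ← zpow_add₀ hc0, ← zpow_add₀ hc0, ← _root_.zpow_zero c,
        zpow_eq_iff hs hcs hc1]
      simp
      linear_combination (1 + ((t : ℤ) : ZMod s)) * hts) (fun i => ⟨v i, hv i, hvx i⟩)
  let l : Fin 5 → AlgebraicClosure F := fun i => if (i : ℕ) = 4 then 1 else c ^ (t ^ (i : ℕ))
  let w : Fin 5 → Fin 5 → AlgebraicClosure F := fun i => if (i : ℕ) = 4 then v' else v i
  have hl : ∀ i : Fin 5, (i : ℕ) ≠ 4 → l i = c ^ (t ^ (i : ℕ)) := fun i hi => if_neg hi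
  have hl4 : ∀ i : Fin 5, (i : ℕ) = 4 → l i = 1 := fun i hi => if_pos hi
  have hw : ∀ i : Fin 5, (i : ℕ) ≠ 4 → w i = v i := fun i hi => if_neg hi
  have hw4 : ∀ i : Fin 5, (i : ℕ) = 4 → w i = v' := fun i hi => if_pos hi
  have hinj : Function.Injective l := by
    intro i j hij
    apply Fin.ext
    by_cases hi : (i : ℕ) = 4 <;> by_cases hj : (j : ℕ) = 4
    · rw [hi, hj]
    · rw [hl4 i hi, hl j hj] at hij
      exact absurd hij.symm (hne1 _)
    · rw [hl i hi, hl4 j hj] at hij
      exact absurd hij (hne1 _)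
    · rw [hl i hi, hl j hj] at hij
      exact hinj4 i j (by have := i.2; omega) (by have := j.2; omega) hij
  have hD : Diag (hat x) l w := by
    refine ⟨hinj, fun i => ?_, fun i => ?_⟩
    · by_cases hi : (i : ℕ) = 4
      · rw [hw4 i hi]; exact hv'
      · rw [hw i hi]; exact hv i
    · by_cases hi : (i : ℕ) = 4
      · rw [hw4 i hi, hl4 i hi, one_smul]; exact hvx'
      · rw [hw i hi, hl i hi]; exact hvx i
  set C := Subgroup.centralizer ({x} : Set (SU 5 F q)) with hC
  have hcomm : ∀ g ∈ C, hat x * hat g = hat g * hat x := by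
    intro g hg
    rw [← hat_mul, ← hat_mul, Subgroup.mem_centralizer_singleton_iff.1 hg]
  obtain ⟨θ, hθ⟩ := exists_char C (hv 0) (fun g hg => by
    obtain ⟨z, hz⟩ := hD.exists_eigen (hcomm g hg)
    exact ⟨z 0, hz 0⟩)
  -- the other eigenvalues
  have hall : ∀ g : C, ∃ z : Fin 5 → AlgebraicClosure F, (∀ i, hat (g : SU 5 F q) *ᵥ w i = z i • w i) ∧
      (∀ i : ℕ, ∀ hi : i < 4, z ⟨i, by omega⟩ = θ g ^ (t ^ i)) ∧ θ g = θ g ^ (t ^ 4) := by
    intro g
    obtain ⟨z, hz⟩ := hD.exists_eigen (hcomm g g.2)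
    have hz0 : z 0 = θ g := by
      have h1 : hat (g : SU 5 F q) *ᵥ v 0 = z 0 • v 0 := hz 0
      have h2 := hθ g
      have h3 : (z 0 - θ g) • v 0 = 0 := by
        rw [sub_smul, ← h2]
        exact sub_eq_zero.2 h1.symm
      rcases smul_eq_zero.1 h3 with h | h
      · exact sub_eq_zero.1 h
      · exact absurd h (hv 0)
    have hstep : ∀ i : ℕ, ∀ hi : i + 1 < 4, z ⟨i + 1, by omega⟩ = (φ (z ⟨i, by omega⟩))⁻¹ := by
      intro i hi
      obtain ⟨j, hj, hzj⟩ := hD.step φ hx' (hat_unitary hF φ hφ (g : SU 5 F q)) hz ⟨i, by omega⟩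
      have h1 : l ⟨i + 1, by omega⟩ = l j := by
        rw [hj, hl _ (by show i + 1 ≠ 4; omega), hl _ (by show i ≠ 4; omega), phi_zpow φ hφ]
        show c ^ (t ^ (i + 1)) = c ^ (t ^ i * t)
        rw [pow_succ]
      rw [← hzj, hinj h1]
    have h1 : ∀ i : ℕ, ∀ hi : i < 4, z ⟨i, by omega⟩ = θ g ^ (t ^ i) := by
      intro i
      induction i with
      | zero => intro hi; rw [pow_zero, _root_.zpow_one]; exact hz0
      | succ i ih =>
        intro hi
        rw [hstep i hi, ih (by omega), phi_zpow φ hφ, pow_succ]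
    refine ⟨z, hz, h1, ?_⟩
    obtain ⟨j, hj, hzj⟩ := hD.step φ hx' (hat_unitary hF φ hφ (g : SU 5 F q)) hz ⟨3, by omega⟩
    have h2 : l 0 = l j := by
      rw [hj, hl 0 (by show (0 : ℕ) ≠ 4; omega), hl _ (by show 3 ≠ 4; omega), phi_zpow φ hφ]
      show c ^ (t ^ 0) = c ^ (t ^ 3 * t)
      rw [← pow_succ, zpow_eq_iff hs hcs hc1]
      push_cast
      rw [pow_zero, ← ht4, pow_orderOf_eq_one]
    rw [← hinj h2, hz0, h1 3 (by omega), phi_zpow φ hφ] at hzj
    rw [pow_succ]
    exact hzj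
  have hθinj : Function.Injective θ := by
    intro g h hgh
    have h1 : θ (g * h⁻¹) = 1 := by
      rw [map_mul, hgh, ← map_mul, mul_inv_cancel, map_one]
    obtain ⟨z, hz, hz', -⟩ := hall (g * h⁻¹)
    have h3 : ∀ i : ℕ, ∀ hi : i < 4, z ⟨i, by omega⟩ = 1 := by
      intro i hi
      rw [hz' i hi, h1, _root_.one_zpow]
    have h4 : z 4 = 1 := by
      have h5 := hD.det_eq hz
      rw [det_hat, Fin.prod_univ_five] at h5
      have a0 : z 0 = 1 := h3 0 (by omega)
      have a1 : z 1 = 1 := h3 1 (by omega)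
      have a2 : z 2 = 1 := h3 2 (by omega)
      have a3 : z 3 = 1 := h3 3 (by omega)
      rw [a0, a1, a2, a3] at h5
      simpa using h5.symm
    have h2 : ((g * h⁻¹ : C) : SU 5 F q) = 1 := by
      apply eq_one_of_hat hD
      intro i
      rw [hz]
      by_cases hi : (i : ℕ) = 4
      · have : i = 4 := Fin.ext hi
        rw [this, h4, one_smul]
      · have : z i = 1 := h3 i (by have := i.2; omega)
        rw [this, one_smul]
    exact mul_inv_eq_one.1 (Subtype.ext h2)
  refine card_dvd θ hθinj fun g => ?_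
  obtain ⟨z, -, -, h3⟩ := hall g
  have hθ0 : θ g ≠ 0 := by
    intro h0
    have h2 : θ g * θ g⁻¹ = 1 := by rw [← map_mul, mul_inv_cancel, map_one]
    rw [h0, zero_mul] at h2
    exact zero_ne_one h2
  have h4 : t ^ 4 = ((q ^ 4 - 1 : ℕ) : ℤ) + 1 := by
    have h5 : 1 ≤ q ^ 4 := Nat.one_le_pow _ _ (q_pos hF)
    rw [ht]
    push_cast [h5]
    ring
  rw [h4, zpow_add₀ hθ0, _root_.zpow_one, _root_.zpow_natCast] at h3
  have h5 : θ g ^ (q ^ 4 - 1) * θ g = 1 * θ g := by rw [← h3, one_mul]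
  exact mul_right_cancel₀ hθ0 h5

end Four

end Cfsg.Agent.H373.Tori
end

private theorem dce_d7d1bbf00b71 : _root_.True := by
  try have : _root_.True := by simp only [_root_.Cfsg.Agent.H373.Eig.Diag.basis.congr_simp]
  try have : _root_.True := by simp only [_root_.Cfsg.Agent.H373.Tori.hat.eq_1]
  try have : _root_.True := by simp only [_root_.Cfsg.Agent.H373.Eig.Diag.basis.eq_1]
  exact _root_.True.intro
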